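import Mathlib
import Groth.Agent.Lib.Helper1.FlatLocus
import Groth.Agent.Lib.Helper1.LocalCriterion3
import Groth.Agent.Lib.Helper3.FibEx.A

/-!
# Fibrewise local freeness, ring level (helper3)

Part A: flatness of a localization from flatness of the fibre (critère de platitude par fibres,
in the form needed for the constructibility of the locally free locus of the fibres).
-/

set_option autoImplicit false
set_option linter.style.haveILetI false

open TensorProduct Function

namespace Groth.Agent.H3.LocFree

section flatTower

variable {R A M : Type*} [CommRing R] [CommRing A] [Algebra R A]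
  [AddCommGroup M] [Module A M] [Module R M] [IsScalarTower R A M]

/-- If `M[1/g]` is flat over `R` (`g ∈ R`) and `q` is a prime of `A` not containing `g`, then `M_q`
is flat over `R`. -/
theorem flat_atPrime_of_flat_away (g : R)
    [hflat : Module.Flat R (Localization.Away g ⊗[R] M)]
    (q : Ideal A) [q.IsPrime] (hg : algebraMap R A g ∉ q)
    {N : Type*} [AddCommGroup N] [Module A N] [Module R N] [IsScalarTower R A N]
    (f : M →ₗ[A] N) [IsLocalizedModule q.primeCompl f] : Module.Flat R N := by
  refine Groth.Agent.H1.FlatLocus.flat_of_forall_exists_smul q.primeCompl f fun I x hx => ?_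
  obtain ⟨s, hs, hsx⟩ := Groth.Agent.H1.FlatLocus.exists_smul_eq_zero_of_flat (R := R) (B := R)
    (Submonoid.powers g) (TensorProduct.mk R (Localization.Away g) M 1) I x hx
  obtain ⟨n, rfl⟩ := hs
  refine ⟨algebraMap R A (g ^ n), ?_, ?_⟩
  · rw [map_pow]
    exact q.primeCompl.pow_mem hg n
  · rw [algebraMap_smul]
    exact hsx

end flatTower

section fibre

variable {R A M : Type*} [CommRing R] [CommRing A] [Algebra R A] [IsNoetherianRing A]
  [AddCommGroup M] [Module A M] [Module R M] [IsScalarTower R A M] [Module.Finite A M]

attribute [local instance] Algebra.TensorProduct.rightAlgebra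

/-- **Critère de platitude par fibres**, in the form: if `M_q` is flat over `R` and the fibre
`κ(p) ⊗ M` is flat over `κ(p) ⊗ A` (`p = q ∩ R`), then `M_q` is flat over `A_q`. -/
theorem flat_atPrime_of_flat_fibre (p : Ideal R) [p.IsPrime] (q : Ideal A) [q.IsPrime]
    (hqp : q.comap (algebraMap R A) = p)
    [Module.Flat R (LocalizedModule q.primeCompl M)]
    [Module.Flat (p.ResidueField ⊗[R] A) ((p.ResidueField ⊗[R] A) ⊗[A] M)] :
    Module.Flat (Localization.AtPrime q) (LocalizedModule q.primeCompl M) := by
  haveI : IsNoetherianRing (Localization.AtPrime q) :=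
    IsLocalization.isNoetherianRing q.primeCompl _ inferInstance
  haveI : Module.Finite (Localization.AtPrime q) (LocalizedModule q.primeCompl M) :=
    Module.Finite.of_isLocalizedModule q.primeCompl
      (LocalizedModule.mkLinearMap q.primeCompl M)
  have hmem : ∀ r : R, r ∈ p ↔ algebraMap R A r ∈ q := fun r => by
    rw [← hqp, Ideal.mem_comap]
  have hIq : p.map (algebraMap R (Localization.AtPrime q)) ≤
      IsLocalRing.maximalIdeal (Localization.AtPrime q) := by
    rw [Ideal.map_le_iff_le_comap]
    intro r hr
    rw [Ideal.mem_comap, IsScalarTower.algebraMap_apply R A (Localization.AtPrime q),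
      IsLocalization.AtPrime.to_map_mem_maximal_iff (Localization.AtPrime q) q]
    exact (hmem r).mp hr
  have hI : (p.map (algebraMap R (Localization.AtPrime q))).map
      (algebraMap (Localization.AtPrime q) (Localization.AtPrime q)) ≤ Ideal.jacobson ⊥ := by
    rw [Algebra.algebraMap_self, Ideal.map_id]
    exact hIq.trans (IsLocalRing.maximalIdeal_le_jacobson ⊥)
  have h1 : Injective ((p.map (algebraMap R (Localization.AtPrime q))).subtype.rTensor
      (LocalizedModule q.primeCompl M)) :=
    Groth.Agent.H1.rTensor_map_subtype_injective_of_flat p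
  haveI : Module.Flat (Localization.AtPrime q ⧸ p.map (algebraMap R (Localization.AtPrime q)))
      ((Localization.AtPrime q ⧸ p.map (algebraMap R (Localization.AtPrime q))) ⊗[Localization.AtPrime q]
        LocalizedModule q.primeCompl M) := by
    -- the map `κ(p) ⊗ A → A_q / p A_q`
    let φ₁ : p.ResidueField →ₐ[R]
        (Localization.AtPrime q ⧸ p.map (algebraMap R (Localization.AtPrime q))) :=
      Ideal.ResidueField.liftₐ (R := R) (A := R) p (Algebra.ofId R _) (by
        intro r hr
        rw [RingHom.mem_ker]
        change algebraMap R (Localization.AtPrime q ⧸ _) r = 0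
        rw [IsScalarTower.algebraMap_apply R (Localization.AtPrime q)
          (Localization.AtPrime q ⧸ p.map (algebraMap R (Localization.AtPrime q))),
          Ideal.Quotient.algebraMap_eq, Ideal.Quotient.eq_zero_iff_mem]
        exact Ideal.mem_map_of_mem _ hr) (by
        intro r hr
        rw [Submonoid.mem_comap, IsUnit.mem_submonoid_iff]
        change IsUnit (algebraMap R (Localization.AtPrime q ⧸ _) r)
        rw [IsScalarTower.algebraMap_apply R A (Localization.AtPrime q ⧸ _),
          IsScalarTower.algebraMap_apply A (Localization.AtPrime q) (Localization.AtPrime q ⧸ _)]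
        refine IsUnit.map _ ?_
        exact IsLocalization.map_units (Localization.AtPrime q)
          (⟨algebraMap R A r, fun h => hr ((hmem r).mpr h)⟩ : q.primeCompl))
    let φ₂ : A →ₐ[R] (Localization.AtPrime q ⧸ p.map (algebraMap R (Localization.AtPrime q))) :=
      IsScalarTower.toAlgHom R A _
    let ψ : p.ResidueField ⊗[R] A →ₐ[R]
        (Localization.AtPrime q ⧸ p.map (algebraMap R (Localization.AtPrime q))) :=
      Algebra.TensorProduct.lift φ₁ φ₂ (fun _ _ => Commute.all _ _)
    letI : Algebra (p.ResidueField ⊗[R] A)
        (Localization.AtPrime q ⧸ p.map (algebraMap R (Localization.AtPrime q))) :=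
      ψ.toRingHom.toAlgebra
    haveI : IsScalarTower A (p.ResidueField ⊗[R] A)
        (Localization.AtPrime q ⧸ p.map (algebraMap R (Localization.AtPrime q))) :=
      IsScalarTower.of_algebraMap_eq fun a => by
        change _ = ψ (algebraMap A (p.ResidueField ⊗[R] A) a)
        rw [Algebra.TensorProduct.right_algebraMap_apply, Algebra.TensorProduct.lift_tmul, map_one,
          one_mul]
        rfl
    let e₁ := AlgebraTensorModule.cancelBaseChange A (p.ResidueField ⊗[R] A)
      (Localization.AtPrime q ⧸ p.map (algebraMap R (Localization.AtPrime q)))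
      (Localization.AtPrime q ⧸ p.map (algebraMap R (Localization.AtPrime q))) M
    let e₂ := Groth.Agent.H3.FibEx.bcEquiv (R := A) (R' := Localization.AtPrime q)
      (LocalizedModule.mkLinearMap q.primeCompl M)
      (IsLocalizedModule.isBaseChange q.primeCompl (Localization.AtPrime q)
        (LocalizedModule.mkLinearMap q.primeCompl M))
      (Localization.AtPrime q ⧸ p.map (algebraMap R (Localization.AtPrime q)))
    exact Module.Flat.of_linearEquiv (e₂.symm ≪≫ₗ e₁.symm)
  exact Groth.Agent.H1.flat_of_rTensor_injective_of_flat_quotient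
    (B := Localization.AtPrime q) _ hI h1

end fibre

section descent

/-- Flatness of a base change of `M` is insensitive to a further faithfully flat base change. -/
theorem flat_baseChange_iff_of_faithfullyFlat {A B₀ B M : Type*} [CommRing A] [CommRing B₀]
    [CommRing B] [Algebra A B₀] [Algebra B₀ B] [Algebra A B] [IsScalarTower A B₀ B]
    [Module.FaithfullyFlat B₀ B] [AddCommGroup M] [Module A M] :
    Module.Flat B (B ⊗[A] M) ↔ Module.Flat B₀ (B₀ ⊗[A] M) := by
  rw [← Module.Flat.iff_flat_tensorProduct B₀ (B₀ ⊗[A] M) B]
  exact Module.Flat.equiv_iff (AlgebraTensorModule.cancelBaseChange A B₀ B B M).symm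

variable {R k₀ k A B₀ B M : Type*} [CommRing R] [CommRing k₀] [CommRing k] [CommRing A]
  [CommRing B₀] [CommRing B]
  [Algebra R k₀] [Algebra R k] [Algebra k₀ k] [IsScalarTower R k₀ k]
  [Algebra R A] [Algebra R B₀] [Algebra k₀ B₀] [Algebra A B₀] [IsScalarTower R k₀ B₀]
  [IsScalarTower R A B₀]
  [Algebra R B] [Algebra k B] [Algebra A B] [IsScalarTower R k B] [IsScalarTower R A B]
  [Algebra k₀ B] [IsScalarTower k₀ k B]
  [Algebra B₀ B] [IsScalarTower k₀ B₀ B] [IsScalarTower A B₀ B]
  [AddCommGroup M] [Module A M]

/-- Pushouts of `A` along `R → k₀ → k`: the second is a pushout of the first. -/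
theorem isPushout_of_isPushout [Algebra.IsPushout R k₀ A B₀] [Algebra.IsPushout R k A B] :
    Algebra.IsPushout k₀ k B₀ B := by
  haveI : IsScalarTower R k₀ B := IsScalarTower.of_algebraMap_eq fun r => by
    rw [IsScalarTower.algebraMap_apply R k B, IsScalarTower.algebraMap_apply R k₀ k,
      ← IsScalarTower.algebraMap_apply k₀ k B]
  refine ⟨IsBaseChange.of_comp (Algebra.IsPushout.out (R := R) (S := k₀) (R' := A) (S' := B₀)) ?_⟩
  convert Algebra.IsPushout.out (R := R) (S := k) (R' := A) (S' := B) using 1
  ext a
  simp only [LinearMap.coe_comp, LinearMap.coe_restrictScalars, comp_apply, AlgHom.toLinearMap_apply,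
    IsScalarTower.coe_toAlgHom']
  exact (IsScalarTower.algebraMap_apply A B₀ B a).symm

/-- **Invariance under extension of the base field** of the flatness of the fibre module. -/
theorem flat_fibre_iff_of_faithfullyFlat [Module.FaithfullyFlat k₀ k]
    [Algebra.IsPushout R k₀ A B₀] [Algebra.IsPushout R k A B] :
    Module.Flat B (B ⊗[A] M) ↔ Module.Flat B₀ (B₀ ⊗[A] M) := by
  have h1 : Algebra.IsPushout k₀ k B₀ B := isPushout_of_isPushout (R := R) (A := A)
  have h2 : Algebra.IsPushout k₀ B₀ k B := h1.symm
  let e : B₀ ⊗[k₀] k ≃ₗ[B₀] B := h2.out.equiv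
  haveI : Module.FaithfullyFlat B₀ B := Module.FaithfullyFlat.of_linearEquiv B₀ (B₀ ⊗[k₀] k) e.symm
  exact flat_baseChange_iff_of_faithfullyFlat

end descent

end Groth.Agent.H3.LocFree
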