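import Mathlib
import Groth.Agent.Lib.Helper1.GenFreeLoc
import Groth.Agent.Lib.Helper3.LocFree.A

/-!
# Fibrewise local freeness, ring level (helper3), part B: the generic dichotomy

`R` a Noetherian domain, `A` an `R`-algebra of finite type, `M` a finite `A`-module.  There is
`g ≠ 0` in `R` such that, for all fibres `B = k ⊗_R A` over fields `k` in which `g` is invertible,
flatness (= local freeness) of `B ⊗_A M` over `B` has a constant truth value.
-/

set_option autoImplicit false
set_option linter.style.haveILetI false

universe u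

open TensorProduct Function

namespace Groth.Agent.H3.LocFree

open Groth.Agent.H1.GenFree

section closed

variable {R A : Type u} [CommRing R] [CommRing A] [Algebra R A]

/-- If `R_g ⊗ A/J = 0` then a power of `g` lies in `J`. -/
theorem exists_pow_mem_of_subsingleton (g : R) (J : Ideal A)
    (h : Subsingleton (Localization.Away g ⊗[R] (A ⧸ J))) :
    ∃ n : ℕ, algebraMap R A (g ^ n) ∈ J := by
  have h0 : TensorProduct.mk R (Localization.Away g) (A ⧸ J) 1 (1 : A ⧸ J) = 0 :=
    Subsingleton.elim _ _
  obtain ⟨s, hs⟩ := (IsLocalizedModule.eq_zero_iff (Submonoid.powers g)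
    (TensorProduct.mk R (Localization.Away g) (A ⧸ J) 1)).mp h0
  obtain ⟨s, n, rfl⟩ := s
  refine ⟨n, ?_⟩
  rw [← Ideal.Quotient.eq_zero_iff_mem, ← Ideal.Quotient.algebraMap_eq,
    ← IsScalarTower.algebraMap_apply R A (A ⧸ J), Algebra.algebraMap_eq_smul_one]
  exact hs

/-- If `R_g ⊗ A/J` is free and nonzero over `R_g`, then `J` generates a proper ideal in every
fibre over `D(g)`. -/
theorem map_ne_top_of_nontrivial (g : R) (J : Ideal A)
    [Module.Free (Localization.Away g) (Localization.Away g ⊗[R] (A ⧸ J))]
    [Nontrivial (Localization.Away g ⊗[R] (A ⧸ J))]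
    (k B : Type*) [CommRing k] [Nontrivial k] [CommRing B] [Algebra R k] [Algebra R B]
    [Algebra k B] [Algebra A B] [IsScalarTower R k B] [IsScalarTower R A B]
    [Algebra.IsPushout R k A B] (hgk : IsUnit (algebraMap R k g)) :
    J.map (algebraMap A B) ≠ ⊤ := by
  letI : Algebra (Localization.Away g) k := (IsLocalization.Away.lift g hgk).toAlgebra
  haveI : IsScalarTower R (Localization.Away g) k := IsScalarTower.of_algebraMap_eq (fun r => by
    change _ = (IsLocalization.Away.lift g hgk) (algebraMap R (Localization.Away g) r)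
    rw [IsLocalization.Away.lift_eq])
  haveI : Nontrivial (k ⊗[Localization.Away g] (Localization.Away g ⊗[R] (A ⧸ J))) :=
    Module.FaithfullyFlat.rTensor_nontrivial _ _ k
  haveI : Nontrivial (k ⊗[R] (A ⧸ J)) :=
    (AlgebraTensorModule.cancelBaseChange R (Localization.Away g) k k (A ⧸ J)).symm.toEquiv.nontrivial
  let δ : B →ₐ[R] k ⊗[R] (A ⧸ J) := Algebra.pushoutDesc B
    (Algebra.TensorProduct.includeLeft (R := R) (S := R) (A := k) (B := A ⧸ J))
    ((Algebra.TensorProduct.includeRight (R := R) (A := k) (B := A ⧸ J)).comp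
      (Ideal.Quotient.mkₐ R J)) (fun _ _ => Commute.all _ _)
  intro htop
  have h1 : (1 : B) ∈ J.map (algebraMap A B) := htop ▸ Submodule.mem_top
  have hker : J.map (algebraMap A B) ≤ RingHom.ker δ.toRingHom := by
    rw [Ideal.map_le_iff_le_comap]
    intro a ha
    rw [Ideal.mem_comap, RingHom.mem_ker]
    change δ (algebraMap A B a) = 0
    rw [Algebra.pushoutDesc_right]
    simp only [AlgHom.coe_comp, comp_apply, Ideal.Quotient.mkₐ_eq_mk,
      Algebra.TensorProduct.includeRight_apply]
    rw [Ideal.Quotient.eq_zero_iff_mem.mpr ha, tmul_zero]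
  have h2 := hker h1
  rw [RingHom.mem_ker, map_one] at h2
  exact one_ne_zero h2

end closed

section core

variable {R A M : Type u} [CommRing R] [CommRing A] [Algebra R A] [IsNoetherianRing A]
  [AddCommGroup M] [Module A M] [Module R M] [IsScalarTower R A M] [Module.Finite A M]

attribute [local instance] Algebra.TensorProduct.rightAlgebra

/-- If the fibre module over `(k, B)` is flat, `M[1/g]` is `R`-flat and `g` is invertible in `k`,
then every prime of `A` in the image of `Spec B` lies in the free locus of `M`. -/
theorem comap_mem_freeLocus_of_flat_fibre (g : R)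
    [Module.Flat R (Localization.Away g ⊗[R] M)]
    (k B : Type*) [CommRing k] [CommRing B] [Algebra R k] [Algebra R B] [Algebra k B]
    [Algebra A B] [IsScalarTower R k B] [IsScalarTower R A B] [Algebra.IsPushout R k A B]
    (hk : IsField k) (hgk : IsUnit (algebraMap R k g)) [Module.Flat B (B ⊗[A] M)]
    (P : PrimeSpectrum B) : P.comap (algebraMap A B) ∈ Module.freeLocus A M := by
  letI : Field k := hk.toField
  set q : Ideal A := (P.comap (algebraMap A B)).asIdeal with hq
  haveI : q.IsPrime := (P.comap (algebraMap A B)).isPrime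
  set p : Ideal R := q.comap (algebraMap R A) with hp
  haveI : p.IsPrime := Ideal.comap_isPrime _ _
  have hmemq : ∀ a : A, a ∈ q ↔ algebraMap A B a ∈ P.asIdeal := fun a => Iff.rfl
  have hmemp : ∀ r : R, r ∈ p ↔ algebraMap R k r = 0 := by
    intro r
    rw [hp, Ideal.mem_comap, hmemq, ← IsScalarTower.algebraMap_apply,
      IsScalarTower.algebraMap_apply R k B]
    constructor
    · intro h
      by_contra hne
      have hu : IsUnit (algebraMap k B (algebraMap R k r)) := (isUnit_iff_ne_zero.mpr hne).map _
      exact P.isPrime.ne_top (Ideal.eq_top_of_isUnit_mem _ h hu)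
    · intro h
      rw [h, map_zero]
      exact Ideal.zero_mem _
  have hgq : algebraMap R A g ∉ q := by
    intro h
    have : g ∈ p := h
    rw [hmemp] at this
    exact hgk.ne_zero this
  haveI : Module.Flat R (LocalizedModule q.primeCompl M) :=
    flat_atPrime_of_flat_away g q hgq (LocalizedModule.mkLinearMap q.primeCompl M)
  -- `k` as an extension of `κ(p)`
  let φ : p.ResidueField →+* k := Ideal.ResidueField.lift p (algebraMap R k)
    (fun r hr => (hmemp r).mp hr) (by
      intro r hr
      rw [Submonoid.mem_comap, IsUnit.mem_submonoid_iff, isUnit_iff_ne_zero]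
      intro h0
      exact hr ((hmemp r).mpr h0))
  letI : Algebra p.ResidueField k := φ.toAlgebra
  haveI : IsScalarTower R p.ResidueField k := IsScalarTower.of_algebraMap_eq fun x =>
    (Ideal.ResidueField.lift_algebraMap p (algebraMap R k) _ _ x).symm
  letI : Algebra p.ResidueField B := ((algebraMap k B).comp (algebraMap p.ResidueField k)).toAlgebra
  haveI : IsScalarTower p.ResidueField k B := IsScalarTower.of_algebraMap_eq fun _ => rfl
  haveI : IsScalarTower R p.ResidueField B := IsScalarTower.of_algebraMap_eq fun r => by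
    rw [IsScalarTower.algebraMap_apply R k B, IsScalarTower.algebraMap_apply R p.ResidueField k,
      ← IsScalarTower.algebraMap_apply p.ResidueField k B]
  let ψ : p.ResidueField ⊗[R] A →ₐ[R] B :=
    Algebra.TensorProduct.lift (IsScalarTower.toAlgHom R p.ResidueField B)
      (IsScalarTower.toAlgHom R A B) (fun _ _ => Commute.all _ _)
  letI : Algebra (p.ResidueField ⊗[R] A) B := ψ.toRingHom.toAlgebra
  haveI : IsScalarTower p.ResidueField (p.ResidueField ⊗[R] A) B :=
    IsScalarTower.of_algebraMap_eq fun c => by
      change _ = ψ (algebraMap p.ResidueField (p.ResidueField ⊗[R] A) c)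
      rw [Algebra.TensorProduct.algebraMap_apply, Algebra.TensorProduct.lift_tmul, map_one,
        mul_one]
      rfl
  haveI : IsScalarTower A (p.ResidueField ⊗[R] A) B :=
    IsScalarTower.of_algebraMap_eq fun a => by
      change _ = ψ (algebraMap A (p.ResidueField ⊗[R] A) a)
      rw [Algebra.TensorProduct.right_algebraMap_apply, Algebra.TensorProduct.lift_tmul, map_one,
        one_mul]
      rfl
  haveI : Algebra.IsPushout R p.ResidueField A (p.ResidueField ⊗[R] A) := TensorProduct.isPushout
  haveI : Module.Flat (p.ResidueField ⊗[R] A) ((p.ResidueField ⊗[R] A) ⊗[A] M) :=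
    (flat_fibre_iff_of_faithfullyFlat (R := R) (k₀ := p.ResidueField) (k := k) (A := A)
      (B₀ := p.ResidueField ⊗[R] A) (B := B) (M := M)).mp inferInstance
  haveI : Module.Flat (Localization.AtPrime q) (LocalizedModule q.primeCompl M) :=
    flat_atPrime_of_flat_fibre p q rfl
  haveI : Module.Finite (Localization.AtPrime q) (LocalizedModule q.primeCompl M) :=
    Module.Finite.of_isLocalizedModule q.primeCompl
      (LocalizedModule.mkLinearMap q.primeCompl M)
  exact Module.mem_freeLocus.mpr Module.free_of_flat_of_isLocalRing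

end core

section uniform

variable {R A M : Type u} [CommRing R] [IsDomain R] [IsNoetherianRing R] [CommRing A]
  [Algebra R A] [Algebra.FiniteType R A]
  [AddCommGroup M] [Module A M] [Module R M] [IsScalarTower R A M] [Module.Finite A M]

/-- **Generic dichotomy for flatness (= local freeness) of the fibre modules.** -/
theorem exists_flat_fibre_uniform :
    ∃ g : R, g ≠ 0 ∧ ∃ b : Prop, ∀ (k B : Type u) [CommRing k] [CommRing B] [Algebra R k]
      [Algebra R B] [Algebra k B] [Algebra A B] [IsScalarTower R k B] [IsScalarTower R A B]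
      [Algebra.IsPushout R k A B], IsField k → IsUnit (algebraMap R k g) →
        (Module.Flat B (B ⊗[A] M) ↔ b) := by
  haveI : IsNoetherianRing A := Algebra.FiniteType.isNoetherianRing R A
  haveI : Module.FinitePresentation A M := Module.finitePresentation_of_finite A M
  obtain ⟨J, hJ⟩ : ∃ J : Ideal A,
      (Module.freeLocus A M)ᶜ = PrimeSpectrum.zeroLocus (J : Set A) :=
    (PrimeSpectrum.isClosed_iff_zeroLocus_ideal _).mp Module.isOpen_freeLocus.isClosed_compl
  obtain ⟨g₁, hg₁, G₁⟩ := exists_good (R := R) (S := A) (M := A ⧸ J) 1 one_ne_zero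
  obtain ⟨g₂, hg₂, G₂⟩ := exists_good (R := R) (S := A) (M := M) (1 * g₁) hg₁
  set g := 1 * g₁ * g₂ with hgdef
  have freeQ : GenFreeAt R (A ⧸ J) g := G₁.freeM.mul_right g₂
  have freeM : GenFreeAt R M g := G₂.freeM
  haveI hQfree : Module.Free (Localization.Away g) (Localization.Away g ⊗[R] (A ⧸ J)) :=
    freeQ.free _ (TensorProduct.mk R (Localization.Away g) (A ⧸ J) 1)
  haveI hMfree : Module.Free (Localization.Away g) (Localization.Away g ⊗[R] M) :=
    freeM.free _ (TensorProduct.mk R (Localization.Away g) M 1)
  haveI : Module.Flat R (Localization.Away g ⊗[R] M) :=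
    Module.Flat.trans R (Localization.Away g) _
  refine ⟨g, hg₂, Subsingleton (Localization.Away g ⊗[R] (A ⧸ J)), ?_⟩
  intro k B _ _ _ _ _ _ _ _ _ hk hgk
  constructor
  · intro hflat
    by_contra hne
    rw [not_subsingleton_iff_nontrivial] at hne
    haveI : Nontrivial k := hk.nontrivial
    have hJB := map_ne_top_of_nontrivial g J k B hgk
    obtain ⟨P, hP, hJP⟩ := Ideal.exists_le_maximal _ hJB
    have hmem := comap_mem_freeLocus_of_flat_fibre (R := R) (A := A) (M := M) g k B hk hgk
      ⟨P, hP.isPrime⟩
    have hnot : PrimeSpectrum.comap (algebraMap A B) ⟨P, hP.isPrime⟩ ∈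
        (Module.freeLocus A M)ᶜ := by
      rw [hJ, PrimeSpectrum.mem_zeroLocus]
      intro a ha
      exact hJP (Ideal.mem_map_of_mem _ ha)
    exact hnot hmem
  · intro hsub
    obtain ⟨n, hn⟩ := exists_pow_mem_of_subsingleton g J hsub
    have hunit : IsUnit (algebraMap A B (algebraMap R A (g ^ n))) := by
      rw [← IsScalarTower.algebraMap_apply, IsScalarTower.algebraMap_apply R k B, map_pow]
      exact (hgk.pow n).map _
    have huniv : Module.freeLocus B (B ⊗[A] M) = Set.univ := by
      rw [Set.eq_univ_iff_forall]
      intro P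
      apply Module.comap_freeLocus_le
      rw [Set.mem_preimage]
      by_contra hnot
      have h1 : PrimeSpectrum.comap (algebraMap A B) P ∈ (Module.freeLocus A M)ᶜ := hnot
      rw [hJ, PrimeSpectrum.mem_zeroLocus] at h1
      have h2 : algebraMap A B (algebraMap R A (g ^ n)) ∈ P.asIdeal := h1 hn
      exact P.isPrime.ne_top (Ideal.eq_top_of_isUnit_mem _ h2 hunit)
    haveI : Module.Projective B (B ⊗[A] M) := Module.freeLocus_eq_univ_iff.mp huniv
    infer_instance

end uniform

end Groth.Agent.H3.LocFree
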