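import Mathlib
import Groth.Agent.Lib.Lead.QC.PullbackUnit
import Groth.Agent.Lib.Helper7.RelCartE

/-!
# Affine charts of the fibres of a morphism (helper3)

For `u : X ⟶ S`, a point `s` of an affine open `W ⊆ S` and an affine open `V ⊆ u⁻¹ W`, the open
`(u.fiberι s)⁻¹ V` of the fibre `X_s` is affine, its ring of sections is the pushout of
`κ(s) ← Γ(S, W) → Γ(X, V)`, and the sections of the pullback of a quasi-coherent module `F` are
the base change of `Γ(F, V)`.
-/

set_option autoImplicit false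
set_option linter.style.haveILetI false

universe u

open CategoryTheory Limits AlgebraicGeometry TopologicalSpace Opposite TensorProduct

namespace Groth.Agent.H3.LocFree

open Groth.Agent.LD.QC

/-- Ring-level data of an affine chart of a fibre. -/
structure FibreChart (R A M B N : Type u) [CommRing R] [CommRing A] [Algebra R A]
    [AddCommGroup M] [Module A M] [CommRing B] [AddCommGroup N] [Module B N] where
  k : Type u
  [fk : CommRing k]
  [aRk : Algebra R k]
  [aRB : Algebra R B]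
  [akB : Algebra k B]
  [aAB : Algebra A B]
  [t1 : IsScalarTower R k B]
  [t2 : IsScalarTower R A B]
  [po : Algebra.IsPushout R k A B]
  isField : IsField k
  equiv : N ≃ₗ[B] B ⊗[A] M

attribute [instance] FibreChart.fk FibreChart.aRk FibreChart.akB

section chart

variable {X S : Scheme.{u}} (u : X ⟶ S) (s : S)

theorem isPullback_fiber : IsPullback (u.fiberι s) (u.fiberToSpecResidueField s) u
    (S.fromSpecResidueField s) := IsPullback.of_hasPullback _ _

variable {W : S.Opens} (hW : IsAffineOpen W) (hs : s ∈ W) {V : X.Opens} (hV : IsAffineOpen V)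
  (e : V ≤ u ⁻¹ᵁ W)

include hs in
theorem top_le_preimage : (⊤ : (Spec (S.residueField s)).Opens) ≤ (S.fromSpecResidueField s) ⁻¹ᵁ W := by
  intro z _
  change (S.fromSpecResidueField s) z ∈ W
  rw [S.fromSpecResidueField_apply s z]
  exact hs

include hW hs hV e in
theorem isAffineOpen_fiberι_preimage : IsAffineOpen ((u.fiberι s) ⁻¹ᵁ V) := by
  have hUY : (u.fiberι s) ⁻¹ᵁ V = (u.fiberι s) ⁻¹ᵁ V ⊓ (u.fiberToSpecResidueField s) ⁻¹ᵁ ⊤ := by
    simp
  haveI : IsAffine (W : Scheme.{u}) := hW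
  haveI : IsAffine ((⊤ : (Spec (S.residueField s)).Opens) : Scheme.{u}) := isAffineOpen_top _
  haveI : IsAffine (V : Scheme.{u}) := hV
  exact .of_isIso (Scheme.Hom.isPullback_resLE (isPullback_fiber u s) (top_le_preimage s hs) e
    hUY).isoPullback.hom

include hW hs in
theorem isUnit_appLE_fromSpecResidueField (g : Γ(S, W)) (hg : s ∈ S.basicOpen g) :
    IsUnit (((S.fromSpecResidueField s).appLE W ⊤ (top_le_preimage s hs)).hom g) := by
  have hF : IsField Γ(Spec (S.residueField s), ⊤) :=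
    (Scheme.ΓSpecIso (S.residueField s)).commRingCatIsoToRingEquiv.toMulEquiv.isField
      (Field.toIsField (S.residueField s))
  letI := hF.toField
  rw [isUnit_iff_ne_zero]
  intro h0
  have h1 : g ∈ RingHom.ker ((S.fromSpecResidueField s).appLE W ⊤ (top_le_preimage s hs)).hom := h0
  rw [Groth.Agent.H7.RelCart.ker_appLE_fromSpecResidueField hW s hs] at h1
  have h2 : hW.fromSpec (hW.primeIdealOf ⟨s, hs⟩) ∈ S.basicOpen g := by
    rw [hW.fromSpec_primeIdealOf]
    exact hg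
  have h3 : hW.primeIdealOf ⟨s, hs⟩ ∈ hW.fromSpec ⁻¹ᵁ S.basicOpen g := h2
  rw [hW.fromSpec_preimage_basicOpen] at h3
  exact h3 h1

set_option maxHeartbeats 1600000 in
include hW hs hV e in
/-- **The affine chart of a fibre**, ring-level data. -/
theorem exists_fibreChart (F : X.Modules) [F.IsQuasicoherent] :
    letI := (u.appLE W V e).hom.toAlgebra
    ∃ c : FibreChart Γ(S, W) Γ(X, V) Γ(F, V) Γ(u.fiber s, (u.fiberι s) ⁻¹ᵁ V)
        Γ((Scheme.Modules.pullback (u.fiberι s)).obj F, (u.fiberι s) ⁻¹ᵁ V),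
      ∀ g : Γ(S, W), s ∈ S.basicOpen g → IsUnit (algebraMap Γ(S, W) c.k g) := by
  letI aRA : Algebra Γ(S, W) Γ(X, V) := (u.appLE W V e).hom.toAlgebra
  have hc := isPullback_fiber u s
  have eW' := top_le_preimage s hs (W := W)
  have hUYdef : (u.fiberι s) ⁻¹ᵁ V =
      (u.fiberι s) ⁻¹ᵁ V ⊓ (u.fiberToSpecResidueField s) ⁻¹ᵁ ⊤ := by simp
  have e1 : (u.fiberι s) ⁻¹ᵁ V ≤ (u.fiberι s) ⁻¹ᵁ V := le_rfl
  have e2 : (u.fiberι s) ⁻¹ᵁ V ≤ (u.fiberToSpecResidueField s) ⁻¹ᵁ ⊤ := by simp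
  have hUY : IsAffineOpen ((u.fiberι s) ⁻¹ᵁ V) := isAffineOpen_fiberι_preimage u s hW hs hV e
  have hpo := (isIso_pushoutSection_iff hc eW' e hUYdef).mp
    (isIso_pushoutSection_of_isAffineOpen hc eW' e hUYdef hW (isAffineOpen_top _) hV)
  letI aRk : Algebra Γ(S, W) Γ(Spec (S.residueField s), ⊤) :=
    ((S.fromSpecResidueField s).appLE W ⊤ eW').hom.toAlgebra
  letI aAB : Algebra Γ(X, V) Γ(u.fiber s, (u.fiberι s) ⁻¹ᵁ V) :=
    ((u.fiberι s).appLE V ((u.fiberι s) ⁻¹ᵁ V) e1).hom.toAlgebra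
  letI akB : Algebra Γ(Spec (S.residueField s), ⊤) Γ(u.fiber s, (u.fiberι s) ⁻¹ᵁ V) :=
    ((u.fiberToSpecResidueField s).appLE ⊤ ((u.fiberι s) ⁻¹ᵁ V) e2).hom.toAlgebra
  letI aRB : Algebra Γ(S, W) Γ(u.fiber s, (u.fiberι s) ⁻¹ᵁ V) :=
    (((u.fiberι s).appLE V ((u.fiberι s) ⁻¹ᵁ V) e1).hom.comp (u.appLE W V e).hom).toAlgebra
  haveI t2 : IsScalarTower Γ(S, W) Γ(X, V) Γ(u.fiber s, (u.fiberι s) ⁻¹ᵁ V) :=
    IsScalarTower.of_algebraMap_eq fun _ => rfl
  haveI t1 : IsScalarTower Γ(S, W) Γ(Spec (S.residueField s), ⊤)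
      Γ(u.fiber s, (u.fiberι s) ⁻¹ᵁ V) :=
    IsScalarTower.of_algebraMap_eq fun r => by
      have := congr($(hpo.w) r)
      exact this
  haveI hPO : Algebra.IsPushout Γ(S, W) Γ(X, V) Γ(Spec (S.residueField s), ⊤)
      Γ(u.fiber s, (u.fiberι s) ⁻¹ᵁ V) :=
    CommRingCat.isPushout_iff_isPushout.mp hpo
  haveI hPO' : Algebra.IsPushout Γ(S, W) Γ(Spec (S.residueField s), ⊤) Γ(X, V)
      Γ(u.fiber s, (u.fiberι s) ⁻¹ᵁ V) := hPO.symm
  have hF : IsField Γ(Spec (S.residueField s), ⊤) :=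
    (Scheme.ΓSpecIso (S.residueField s)).commRingCatIsoToRingEquiv.toMulEquiv.isField
      (Field.toIsField (S.residueField s))
  letI := pbModule (u.fiberι s) F e1
  haveI := pbModule_isScalarTower (u.fiberι s) F e1
  have hbc : IsBaseChange Γ(u.fiber s, (u.fiberι s) ⁻¹ᵁ V) (pbSecₗ (u.fiberι s) F e1) :=
    isBaseChange_pbSec (u.fiberι s) hUY hV e1 F
  exact ⟨{ k := Γ(Spec (S.residueField s), ⊤)
           isField := hF
           equiv := hbc.equiv.symm },
    fun g hg => isUnit_appLE_fromSpecResidueField s hW hs g hg⟩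

end chart

end Groth.Agent.H3.LocFree
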