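import Mathlib
import Groth.Agent.Lib.Helper3.LocFree.B
import Groth.Agent.Lib.Helper3.LocFree.C
import Groth.Agent.Lib.Helper3.ConsP.ModLocus
import Groth.Agent.Lib.Lead.QC.LocFree3
import Groth.Agent.Lib.Helper3.ConsUI

/-!
# Local freeness of the fibre modules is a constructible property (helper3)
-/

set_option autoImplicit false
set_option linter.style.haveILetI false

universe u

open CategoryTheory Limits AlgebraicGeometry TopologicalSpace Opposite TensorProduct

namespace Groth.Agent.H3.LocFree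

open Groth.Agent.LD.QC

section chart

variable {X S : Scheme.{u}} (u : X ⟶ S) [IsIntegral S] [IsLocallyNoetherian S]
  [LocallyOfFiniteType u] (F : X.Modules) [F.IsQuasicoherent] (hFT : F.IsFiniteType)
  {W : S.Opens} (hW : IsAffineOpen W) [Nonempty W] {V : X.Opens} (hV : IsAffineOpen V)
  (e : V ≤ u ⁻¹ᵁ W)

include hFT hW hV e in
/-- The generic dichotomy on one affine chart. -/
theorem exists_uniform_chart :
    ∃ g : Γ(S, W), g ≠ 0 ∧ ∃ b : Prop, ∀ s : S, s ∈ S.basicOpen g →
      (Module.Flat Γ(u.fiber s, (u.fiberι s) ⁻¹ᵁ V)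
        Γ((Scheme.Modules.pullback (u.fiberι s)).obj F, (u.fiberι s) ⁻¹ᵁ V) ↔ b) := by
  letI : Algebra Γ(S, W) Γ(X, V) := (u.appLE W V e).hom.toAlgebra
  haveI : Algebra.FiniteType Γ(S, W) Γ(X, V) :=
    HasRingHomProperty.appLE (P := @LocallyOfFiniteType) u inferInstance ⟨W, hW⟩ ⟨V, hV⟩ e
  letI : Module Γ(S, W) Γ(F, V) := Module.compHom _ (u.appLE W V e).hom
  haveI : IsScalarTower Γ(S, W) Γ(X, V) Γ(F, V) := ⟨fun a b x => by
    change (a • b) • x = (u.appLE W V e).hom a • (b • x)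
    rw [Algebra.smul_def, mul_smul]
    rfl⟩
  haveI : Module.Finite Γ(X, V) Γ(F, V) := finite_sections_of_isFiniteType F hFT hV
  haveI : IsNoetherianRing Γ(S, W) := IsLocallyNoetherian.component_noetherian ⟨W, hW⟩
  obtain ⟨g, hg, b, hb⟩ := exists_flat_fibre_uniform (R := Γ(S, W)) (A := Γ(X, V))
    (M := Γ(F, V))
  refine ⟨g, hg, b, fun s hs => ?_⟩
  have hsW : s ∈ W := S.basicOpen_le g hs
  obtain ⟨c, hc⟩ := exists_fibreChart u s hW hsW hV e F
  letI := c.aRB
  letI := c.aAB
  haveI := c.t1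
  haveI := c.t2
  haveI := c.po
  rw [← hb c.k Γ(u.fiber s, (u.fiberι s) ⁻¹ᵁ V) c.isField (hc g hs)]
  exact Module.Flat.equiv_iff c.equiv

end chart

section main

/-- Local freeness of a coherent module is invariant under extension of the base field. -/
theorem isFieldStableMod_isFinLocFree :
    ConsProp.IsFieldStableMod.{u} (fun _ _ _ G => FlatMod.IsFinLocFree G) := by
  intro Y Y' T T' g g' e h _ _ _ _ _ _ sq F F' hF iso
  haveI : F.IsQuasicoherent := hF.1
  constructor
  · intro hFl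
    exact isFinLocFree_of_iso iso.symm (isFinLocFree_pullback e F hFl)
  · intro hF'
    have hh := Groth.Agent.H3.ConsUI.fpqc_of_subsingleton h
    have he : (@Surjective ⊓ @Flat ⊓ @QuasiCompact : MorphismProperty Scheme.{u}) e :=
      MorphismProperty.of_isPullback sq.flip hh
    haveI : Surjective e := he.1.1
    haveI : Flat e := he.1.2
    haveI : QuasiCompact e := he.2
    exact isFinLocFree_of_pullback_fpqc e F (isFinLocFree_of_iso iso hF')

theorem basicOpen_le_of_dvd {S : Scheme.{u}} {W : S.Opens} {a b : Γ(S, W)} (h : a ∣ b) :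
    S.basicOpen b ≤ S.basicOpen a := by
  obtain ⟨c, rfl⟩ := h
  rw [Scheme.basicOpen_mul]
  exact inf_le_left

set_option maxHeartbeats 1600000 in
/-- **Generic dichotomy for local freeness of the fibre modules.** -/
theorem dichotomy_isFinLocFree {X S : Scheme.{u}} (u : X ⟶ S) [IsIntegral S] [IsNoetherian S]
    [LocallyOfFiniteType u] [QuasiCompact u] (F : X.Modules) (hF : Coh.IsCoh F) :
    (interior (ConsProp.locusMod (fun _ _ _ G => FlatMod.IsFinLocFree G) u F)).Nonempty ∨
      (interior (ConsProp.locusMod (fun _ _ _ G => FlatMod.IsFinLocFree G) u F)ᶜ).Nonempty := by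
  haveI : F.IsQuasicoherent := hF.1
  have hFT : F.IsFiniteType := hF.2
  haveI : IsLocallyNoetherian X := LocallyOfFiniteType.isLocallyNoetherian u
  have hFP : F.IsFinitePresentation := isFinitePresentation_of_qc_ft F hF.1 hFT
  obtain ⟨W, hW, hηW, -⟩ :=
    exists_isAffineOpen_mem_and_subset (x := genericPoint S) (U := ⊤) trivial
  haveI : Nonempty W := ⟨⟨genericPoint S, hηW⟩⟩
  have hcpt : IsCompact (X := X) (u ⁻¹ᵁ W) :=
    QuasiCompact.isCompact_preimage (f := u) _ W.2 hW.isCompact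
  obtain ⟨𝒱, h𝒱fin, h𝒱⟩ := isCompact_iff_finite_and_eq_biUnion_affineOpens.mp hcpt
  have key : ∀ V : X.affineOpens, ∃ g : Γ(S, W), g ≠ 0 ∧ ∃ b : Prop, V.1 ≤ u ⁻¹ᵁ W →
      ∀ s : S, s ∈ S.basicOpen g →
        (Module.Flat Γ(u.fiber s, (u.fiberι s) ⁻¹ᵁ V.1)
          Γ((Scheme.Modules.pullback (u.fiberι s)).obj F, (u.fiberι s) ⁻¹ᵁ V.1) ↔ b) := by
    intro V
    by_cases hVW : V.1 ≤ u ⁻¹ᵁ W
    · obtain ⟨g, hg, b, hb⟩ := exists_uniform_chart u F hFT hW V.2 hVW
      exact ⟨g, hg, b, fun _ => hb⟩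
    · exact ⟨1, one_ne_zero, True, fun h => absurd h hVW⟩
  choose g hg b hb using key
  have hle : ∀ V ∈ 𝒱, V.1 ≤ u ⁻¹ᵁ W := fun V hV => by
    rw [h𝒱]
    exact le_iSup₂ (f := fun (i : X.affineOpens) (_ : i ∈ 𝒱) => (i : X.Opens)) V hV
  obtain ⟨G, hGdef⟩ : ∃ G : Γ(S, W), G = ∏ V ∈ h𝒱fin.toFinset, g V := ⟨_, rfl⟩
  have hG : G ≠ 0 := by
    rw [hGdef]
    exact Finset.prod_ne_zero_iff.mpr fun V _ => hg V
  have hGle : ∀ V ∈ 𝒱, S.basicOpen G ≤ S.basicOpen (g V) := fun V hV => by
    apply basicOpen_le_of_dvd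
    rw [hGdef]
    exact Finset.dvd_prod_of_mem g (h𝒱fin.mem_toFinset.mpr hV)
  have hne : (S.basicOpen G : Set S).Nonempty := by
    rw [Set.nonempty_iff_ne_empty]
    intro h
    exact hG ((basicOpen_eq_bot_iff G).mp (Opens.ext h))
  have claim : ∀ s ∈ S.basicOpen G,
      (s ∈ ConsProp.locusMod (fun _ _ _ G => FlatMod.IsFinLocFree G) u F ↔ ∀ V ∈ 𝒱, b V) := by
    intro s hs
    have hsW : s ∈ W := S.basicOpen_le G hs
    haveI : ((Scheme.Modules.pullback (u.fiberι s)).obj F).IsQuasicoherent :=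
      qc_pullback (u.fiberι s) F
    constructor
    · intro hloc V hV
      have h1 := ((isFinLocFree_iff_sections _).mp hloc ((u.fiberι s) ⁻¹ᵁ V.1)
        (isAffineOpen_fiberι_preimage u s hW hsW V.2 (hle V hV))).2
      exact (hb V (hle V hV) s (hGle V hV hs)).mp h1
    · intro hall
      change FlatMod.IsFinLocFree ((Scheme.Modules.pullback (u.fiberι s)).obj F)
      apply isFinLocFree_of_projective_sections
      intro y
      have hy : (u.fiberι s) y ∈ u ⁻¹ᵁ W := by
        change u ((u.fiberι s) y) ∈ W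
        have h2 : (u.fiberι s) y ∈ u ⁻¹' {s} := by
          rw [← u.range_fiberι s]
          exact ⟨y, rfl⟩
        have h3 : u ((u.fiberι s) y) = s := h2
        rw [h3]
        exact hsW
      rw [h𝒱] at hy
      obtain ⟨V, hV, hyV⟩ : ∃ V ∈ 𝒱, (u.fiberι s) y ∈ V.1 := by
        simpa [Opens.mem_iSup] using hy
      have hU := isAffineOpen_fiberι_preimage u s hW hsW V.2 (hle V hV)
      haveI hflat := (hb V (hle V hV) s (hGle V hV hs)).mpr (hall V hV)
      haveI hfp : Module.FinitePresentation Γ(u.fiber s, (u.fiberι s) ⁻¹ᵁ V.1)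
          Γ((Scheme.Modules.pullback (u.fiberι s)).obj F, (u.fiberι s) ⁻¹ᵁ V.1) :=
        finitePresentation_sections_of_isFinitePresentation _
          (isFinitePresentation_pullback (u.fiberι s) F hFP) hU
      exact ⟨(u.fiberι s) ⁻¹ᵁ V.1, hU, hyV, inferInstance,
        Module.Flat.projective_of_finitePresentation⟩
  by_cases hall : ∀ V ∈ 𝒱, b V
  · left
    refine hne.mono (interior_maximal ?_ (S.basicOpen G).2)
    intro s hs
    exact (claim s hs).mpr hall
  · right
    refine hne.mono (interior_maximal ?_ (S.basicOpen G).2)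
    intro s hs h
    exact hall ((claim s hs).mp h)

/-- **Local freeness is a constructible property of coherent modules on algebraic schemes.** -/
theorem isConsMod_isFinLocFree :
    ConsProp.IsConsMod.{u} (fun _ _ _ G => FlatMod.IsFinLocFree G) :=
  ⟨isFieldStableMod_isFinLocFree, fun _ _ u _ _ _ _ F hF => dichotomy_isFinLocFree u F hF⟩

end main

end Groth.Agent.H3.LocFree
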