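import Mathlib
import Groth.Agent.Lib.Helper3.LocFree.B

/-!
# Fibrewise local freeness of given rank, ring level (helper3)
-/

set_option autoImplicit false
set_option linter.style.haveILetI false

universe u

open TensorProduct Function

namespace Groth.Agent.H3.LocFree

open Groth.Agent.H1.GenFree

section rankBC

variable {A B M : Type*} [CommRing A] [CommRing B] [Algebra A B] [AddCommGroup M] [Module A M]

/-- The rank of a base change at a prime over a point of the free locus. -/
theorem rankAtStalk_baseChange_of_mem_freeLocus (P : PrimeSpectrum B)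
    (h : P.comap (algebraMap A B) ∈ Module.freeLocus A M) :
    Module.rankAtStalk (B ⊗[A] M) P = Module.rankAtStalk M (P.comap (algebraMap A B)) := by
  let q : PrimeSpectrum A := P.comap (algebraMap A B)
  let := Localization.AtPrime.algebraOfLiesOver q.asIdeal P.asIdeal
  haveI : Module.Free (Localization.AtPrime q.asIdeal) (LocalizedModule q.asIdeal.primeCompl M) := h
  let e : LocalizedModule P.asIdeal.primeCompl (B ⊗[A] M) ≃ₗ[Localization.AtPrime P.asIdeal]
      Localization.AtPrime P.asIdeal ⊗[Localization.AtPrime q.asIdeal]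
        LocalizedModule q.asIdeal.primeCompl M :=
    LocalizedModule.equivTensorProduct _ _ ≪≫ₗ
      (AlgebraTensorModule.cancelBaseChange A B _ _ M) ≪≫ₗ
      (AlgebraTensorModule.cancelBaseChange A _ _ _ M).symm ≪≫ₗ
      (AlgebraTensorModule.congr (LinearEquiv.refl _ _)
        (LocalizedModule.equivTensorProduct _ M).symm)
  rw [Module.rankAtStalk, e.finrank_eq]
  exact Module.finrank_baseChange

end rankBC

section uniform

variable {R A M : Type u} [CommRing R] [IsDomain R] [IsNoetherianRing R] [CommRing A]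
  [Algebra R A] [Algebra.FiniteType R A]
  [AddCommGroup M] [Module A M] [Module R M] [IsScalarTower R A M] [Module.Finite A M]

/-- Refined generic dichotomy: either no fibre over `D(g)` is flat, or `M` is locally free at all
primes of `A` over `D(g)`. -/
theorem exists_flat_fibre_uniform' :
    ∃ g : R, g ≠ 0 ∧ ((∀ (k B : Type u) [CommRing k] [CommRing B] [Algebra R k]
      [Algebra R B] [Algebra k B] [Algebra A B] [IsScalarTower R k B] [IsScalarTower R A B]
      [Algebra.IsPushout R k A B], IsField k → IsUnit (algebraMap R k g) →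
        ¬ Module.Flat B (B ⊗[A] M)) ∨
      (∀ q : PrimeSpectrum A, algebraMap R A g ∉ q.asIdeal → q ∈ Module.freeLocus A M)) := by
  haveI : IsNoetherianRing A := Algebra.FiniteType.isNoetherianRing R A
  haveI : Module.FinitePresentation A M := Module.finitePresentation_of_finite A M
  obtain ⟨J, hJ⟩ : ∃ J : Ideal A,
      (Module.freeLocus A M)ᶜ = PrimeSpectrum.zeroLocus (J : Set A) :=
    (PrimeSpectrum.isClosed_iff_zeroLocus_ideal _).mp Module.isOpen_freeLocus.isClosed_compl
  obtain ⟨g₁, hg₁, G₁⟩ := exists_good (R := R) (S := A) (M := A ⧸ J) 1 one_ne_zero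
  obtain ⟨g₂, hg₂, G₂⟩ := exists_good (R := R) (S := A) (M := M) (1 * g₁) hg₁
  set g := 1 * g₁ * g₂ with hgdef
  have freeQ : GenFreeAt R (A ⧸ J) g := G₁.freeM.mul_right g₂
  have freeM : GenFreeAt R M g := G₂.freeM
  haveI hQfree : Module.Free (Localization.Away g) (Localization.Away g ⊗[R] (A ⧸ J)) :=
    freeQ.free _ (TensorProduct.mk R (Localization.Away g) (A ⧸ J) 1)
  haveI hMfree : Module.Free (Localization.Away g) (Localization.Away g ⊗[R] M) :=
    freeM.free _ (TensorProduct.mk R (Localization.Away g) M 1)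
  haveI : Module.Flat R (Localization.Away g ⊗[R] M) :=
    Module.Flat.trans R (Localization.Away g) _
  refine ⟨g, hg₂, ?_⟩
  by_cases hsub : Subsingleton (Localization.Away g ⊗[R] (A ⧸ J))
  · right
    intro q hq
    obtain ⟨n, hn⟩ := exists_pow_mem_of_subsingleton g J hsub
    by_contra hnot
    have h1 : q ∈ (Module.freeLocus A M)ᶜ := hnot
    rw [hJ, PrimeSpectrum.mem_zeroLocus] at h1
    have h2 : algebraMap R A (g ^ n) ∈ q.asIdeal := h1 hn
    rw [map_pow] at h2
    exact hq (q.isPrime.mem_of_pow_mem n h2)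
  · left
    rw [not_subsingleton_iff_nontrivial] at hsub
    intro k B _ _ _ _ _ _ _ _ _ hk hgk hflat
    haveI : Nontrivial k := hk.nontrivial
    have hJB := map_ne_top_of_nontrivial g J k B hgk
    obtain ⟨P, hP, hJP⟩ := Ideal.exists_le_maximal _ hJB
    have hmem := comap_mem_freeLocus_of_flat_fibre (R := R) (A := A) (M := M) g k B hk hgk
      ⟨P, hP.isPrime⟩
    have hnot : PrimeSpectrum.comap (algebraMap A B) ⟨P, hP.isPrime⟩ ∈
        (Module.freeLocus A M)ᶜ := by
      rw [hJ, PrimeSpectrum.mem_zeroLocus]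
      intro a ha
      exact hJP (Ideal.mem_map_of_mem _ ha)
    exact hnot hmem

omit [IsDomain R] [IsNoetherianRing R] [Algebra.FiniteType R A] [Module R M]
  [IsScalarTower R A M] [Module.Finite A M] in
/-- The locus in `D(g) ∩ freeLocus` where the rank is `n` is open. -/
theorem isOpen_rank_eq [Module.FinitePresentation A M] (g : R) (n : ℕ)
    (hfree : ∀ q : PrimeSpectrum A, algebraMap R A g ∉ q.asIdeal → q ∈ Module.freeLocus A M) :
    IsOpen {q : PrimeSpectrum A | algebraMap R A g ∉ q.asIdeal ∧ Module.rankAtStalk M q = n} := by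
  have h1 : IsOpen {x : Module.freeLocus A M | Module.rankAtStalk M x.1 = n} :=
    (Module.isLocallyConstant_rankAtStalk_freeLocus (R := A) (M := M)).isOpen_fiber n
  have h2 : IsOpen (Subtype.val '' {x : Module.freeLocus A M | Module.rankAtStalk M x.1 = n}) :=
    (Module.isOpen_freeLocus (R := A) (M := M)).isOpenMap_subtype_val _ h1
  have h3 : {q : PrimeSpectrum A | algebraMap R A g ∉ q.asIdeal ∧ Module.rankAtStalk M q = n} =
      (PrimeSpectrum.basicOpen (algebraMap R A g) : Set (PrimeSpectrum A)) ∩
        Subtype.val '' {x : Module.freeLocus A M | Module.rankAtStalk M x.1 = n} := by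
    ext q
    constructor
    · rintro ⟨hq, hr⟩
      exact ⟨hq, ⟨⟨q, hfree q hq⟩, hr, rfl⟩⟩
    · rintro ⟨hq, ⟨x, hx, rfl⟩⟩
      exact ⟨hq, hx⟩
  rw [h3]
  exact (PrimeSpectrum.basicOpen _).2.inter h2

set_option maxHeartbeats 1600000 in
/-- **Generic dichotomy for local freeness of rank `n` of the fibre modules.** -/
theorem exists_rank_fibre_uniform (n : ℕ) :
    ∃ g : R, g ≠ 0 ∧ ∃ b : Prop, ∀ (k B : Type u) [CommRing k] [CommRing B] [Algebra R k]
      [Algebra R B] [Algebra k B] [Algebra A B] [IsScalarTower R k B] [IsScalarTower R A B]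
      [Algebra.IsPushout R k A B], IsField k → IsUnit (algebraMap R k g) →
        ((Module.Flat B (B ⊗[A] M) ∧
          ∀ P : PrimeSpectrum B, Module.rankAtStalk (B ⊗[A] M) P = n) ↔ b) := by
  haveI : IsNoetherianRing A := Algebra.FiniteType.isNoetherianRing R A
  haveI : Module.FinitePresentation A M := Module.finitePresentation_of_finite A M
  obtain ⟨g₁, hg₁, h⟩ := exists_flat_fibre_uniform' (R := R) (A := A) (M := M)
  rcases h with hA | hB
  · exact ⟨g₁, hg₁, False, fun k B _ _ _ _ _ _ _ _ _ hk hu =>
      ⟨fun h => hA k B hk hu h.1, False.elim⟩⟩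
  · obtain ⟨J, hJ⟩ : ∃ J : Ideal A,
        {q : PrimeSpectrum A | algebraMap R A g₁ ∉ q.asIdeal ∧ Module.rankAtStalk M q = n}ᶜ =
          PrimeSpectrum.zeroLocus (J : Set A) :=
      (PrimeSpectrum.isClosed_iff_zeroLocus_ideal _).mp (isOpen_rank_eq g₁ n hB).isClosed_compl
    obtain ⟨g₂, hg₂, G₂⟩ := exists_good (R := R) (S := A) (M := A ⧸ J) g₁ hg₁
    set g := g₁ * g₂ with hgdef
    haveI hQfree : Module.Free (Localization.Away g) (Localization.Away g ⊗[R] (A ⧸ J)) :=
      G₂.freeM.free _ (TensorProduct.mk R (Localization.Away g) (A ⧸ J) 1)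
    refine ⟨g, hg₂, Subsingleton (Localization.Away g ⊗[R] (A ⧸ J)), ?_⟩
    intro k B _ _ _ _ _ _ _ _ _ hk hgk
    have hg₁k : IsUnit (algebraMap R k g₁) := by
      rw [hgdef, map_mul] at hgk
      exact isUnit_of_mul_isUnit_left hgk
    have hunitB : ∀ r : R, IsUnit (algebraMap R k r) → ∀ P : PrimeSpectrum B,
        algebraMap R A r ∉ (P.comap (algebraMap A B)).asIdeal := by
      intro r hr P hmem
      have h1 : algebraMap A B (algebraMap R A r) ∈ P.asIdeal := hmem
      rw [← IsScalarTower.algebraMap_apply, IsScalarTower.algebraMap_apply R k B] at h1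
      exact P.isPrime.ne_top (Ideal.eq_top_of_isUnit_mem _ h1 (hr.map _))
    have hfreeP : ∀ P : PrimeSpectrum B, P.comap (algebraMap A B) ∈ Module.freeLocus A M :=
      fun P => hB _ (hunitB g₁ hg₁k P)
    have hflat : Module.Flat B (B ⊗[A] M) := by
      have huniv : Module.freeLocus B (B ⊗[A] M) = Set.univ := by
        rw [Set.eq_univ_iff_forall]
        intro P
        exact Module.comap_freeLocus_le (hfreeP P)
      haveI : Module.Projective B (B ⊗[A] M) := Module.freeLocus_eq_univ_iff.mp huniv
      infer_instance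
    constructor
    · rintro ⟨-, hrank⟩
      by_contra hne
      rw [not_subsingleton_iff_nontrivial] at hne
      haveI : Nontrivial k := hk.nontrivial
      have hJB := map_ne_top_of_nontrivial g J k B hgk
      obtain ⟨P, hP, hJP⟩ := Ideal.exists_le_maximal _ hJB
      have hq : PrimeSpectrum.comap (algebraMap A B) ⟨P, hP.isPrime⟩ ∈
          PrimeSpectrum.zeroLocus (J : Set A) := by
        rw [PrimeSpectrum.mem_zeroLocus]
        intro a ha
        exact hJP (Ideal.mem_map_of_mem _ ha)
      rw [← hJ] at hq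
      apply hq
      refine ⟨hunitB g₁ hg₁k ⟨P, hP.isPrime⟩, ?_⟩
      rw [← rankAtStalk_baseChange_of_mem_freeLocus _ (hfreeP ⟨P, hP.isPrime⟩)]
      exact hrank _
    · intro hsub
      refine ⟨hflat, fun P => ?_⟩
      obtain ⟨m, hm⟩ := exists_pow_mem_of_subsingleton g J hsub
      have hq : PrimeSpectrum.comap (algebraMap A B) P ∉ PrimeSpectrum.zeroLocus (J : Set A) := by
        intro h1
        rw [PrimeSpectrum.mem_zeroLocus] at h1
        have h2 : algebraMap R A (g ^ m) ∈ (P.comap (algebraMap A B)).asIdeal := h1 hm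
        exact hunitB (g ^ m) (by rw [map_pow]; exact hgk.pow m) P h2
      rw [← hJ, Set.notMem_compl_iff] at hq
      rw [rankAtStalk_baseChange_of_mem_freeLocus _ (hfreeP P)]
      exact hq.2

end uniform

end Groth.Agent.H3.LocFree
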