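import Mathlib
import Groth.Agent.Lib.Helper3.LocFree.D
import Groth.Agent.Lib.Helper3.LocFree.E
import Groth.Agent.Lib.Helper5.Lim.ModuleLocFreeRank

/-!
# Local freeness of rank `n` of the fibre modules is a constructible property (helper3)
-/

set_option autoImplicit false
set_option linter.style.haveILetI false

universe u

open CategoryTheory Limits AlgebraicGeometry TopologicalSpace Opposite TensorProduct

namespace Groth.Agent.H3.LocFree

open Groth.Agent.LD.QC Groth.Agent.H5.Lim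

section generic

/-- **Generic dichotomy from affine charts**: if a subset `E` of an integral base can be tested,
over a nonempty affine open `W`, chart by chart on any finite affine cover of `u⁻¹ W`, and each
chart condition has a constant truth value on a nonempty basic open of `W`, then `E` or its
complement has nonempty interior. -/
theorem dichotomy_of_charts {X S : Scheme.{u}} (u : X ⟶ S) [IsIntegral S] [QuasiCompact u]
    (E : Set S) (Q : X.affineOpens → S → Prop)
    {W : S.Opens} (hW : IsAffineOpen W) [Nonempty W]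
    (hQ : ∀ V : X.affineOpens, V.1 ≤ u ⁻¹ᵁ W → ∃ g : Γ(S, W), g ≠ 0 ∧ ∃ b : Prop,
      ∀ s : S, s ∈ S.basicOpen g → (Q V s ↔ b))
    (hE : ∀ 𝒱 : Set X.affineOpens, (u ⁻¹ᵁ W = ⨆ i ∈ 𝒱, (i : X.Opens)) → ∀ s : S, s ∈ W →
      (s ∈ E ↔ ∀ V ∈ 𝒱, Q V s)) :
    (interior E).Nonempty ∨ (interior Eᶜ).Nonempty := by
  have hcpt : IsCompact (X := X) (u ⁻¹ᵁ W) :=
    QuasiCompact.isCompact_preimage (f := u) _ W.2 hW.isCompact
  obtain ⟨𝒱, h𝒱fin, h𝒱⟩ := isCompact_iff_finite_and_eq_biUnion_affineOpens.mp hcpt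
  have key : ∀ V : X.affineOpens, ∃ g : Γ(S, W), g ≠ 0 ∧ ∃ b : Prop, V.1 ≤ u ⁻¹ᵁ W →
      ∀ s : S, s ∈ S.basicOpen g → (Q V s ↔ b) := by
    intro V
    by_cases hVW : V.1 ≤ u ⁻¹ᵁ W
    · obtain ⟨g, hg, b, hb⟩ := hQ V hVW
      exact ⟨g, hg, b, fun _ => hb⟩
    · exact ⟨1, one_ne_zero, True, fun h => absurd h hVW⟩
  choose g hg b hb using key
  have hle : ∀ V ∈ 𝒱, V.1 ≤ u ⁻¹ᵁ W := fun V hV => by
    rw [h𝒱]
    exact le_iSup₂ (f := fun (i : X.affineOpens) (_ : i ∈ 𝒱) => (i : X.Opens)) V hV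
  obtain ⟨G, hGdef⟩ : ∃ G : Γ(S, W), G = ∏ V ∈ h𝒱fin.toFinset, g V := ⟨_, rfl⟩
  have hG : G ≠ 0 := by
    rw [hGdef]
    exact Finset.prod_ne_zero_iff.mpr fun V _ => hg V
  have hGle : ∀ V ∈ 𝒱, S.basicOpen G ≤ S.basicOpen (g V) := fun V hV => by
    apply basicOpen_le_of_dvd
    rw [hGdef]
    exact Finset.dvd_prod_of_mem g (h𝒱fin.mem_toFinset.mpr hV)
  have hne : (S.basicOpen G : Set S).Nonempty := by
    rw [Set.nonempty_iff_ne_empty]
    intro h
    exact hG ((basicOpen_eq_bot_iff G).mp (Opens.ext h))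
  have claim : ∀ s ∈ S.basicOpen G, (s ∈ E ↔ ∀ V ∈ 𝒱, b V) := by
    intro s hs
    rw [hE 𝒱 h𝒱 s (S.basicOpen_le G hs)]
    exact forall₂_congr fun V hV => hb V (hle V hV) s (hGle V hV hs)
  by_cases hall : ∀ V ∈ 𝒱, b V
  · left
    refine hne.mono (interior_maximal ?_ (S.basicOpen G).2)
    intro s hs
    exact (claim s hs).mpr hall
  · right
    refine hne.mono (interior_maximal ?_ (S.basicOpen G).2)
    intro s hs h
    exact hall ((claim s hs).mp h)

end generic

section rank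

/-- Local freeness of rank `n` of a coherent module is invariant under extension of the base
field. -/
theorem isFieldStableMod_isFinLocFreeOfRank (n : ℕ) :
    ConsProp.IsFieldStableMod.{u} (fun _ _ _ G => FlatMod.IsFinLocFreeOfRank n G) := by
  intro Y Y' T T' g g' e h _ _ _ _ _ _ sq F F' hF iso
  haveI : F.IsQuasicoherent := hF.1
  constructor
  · intro hFl
    exact isFinLocFreeOfRank_of_iso iso.symm (isFinLocFreeOfRank_pullback e F hFl)
  · intro hF'
    have hh := Groth.Agent.H3.ConsUI.fpqc_of_subsingleton h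
    have he : (@Surjective ⊓ @Flat ⊓ @QuasiCompact : MorphismProperty Scheme.{u}) e :=
      MorphismProperty.of_isPullback sq.flip hh
    haveI : Surjective e := he.1.1
    haveI : Flat e := he.1.2
    haveI : QuasiCompact e := he.2
    have h1 : FlatMod.IsFinLocFreeOfRank n ((Scheme.Modules.pullback e).obj F) :=
      isFinLocFreeOfRank_of_iso iso hF'
    change FlatMod.IsFinLocFreeOfRank n F
    rw [isFinLocFreeOfRank_iff_finrank_stalk] at h1 ⊢
    have hFl : FlatMod.IsFinLocFree F := isFinLocFree_of_pullback_fpqc e F h1.1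
    refine ⟨hFl, fun x => ?_⟩
    obtain ⟨x', rfl⟩ := e.surjective x
    rw [← finrank_stalk_pullback e F hFl x']
    exact h1.2 x'

variable {X S : Scheme.{u}} (u : X ⟶ S) [IsIntegral S] [IsLocallyNoetherian S]
  [LocallyOfFiniteType u] (F : X.Modules) [F.IsQuasicoherent] (hFT : F.IsFiniteType)
  {W : S.Opens} (hW : IsAffineOpen W) [Nonempty W] {V : X.Opens} (hV : IsAffineOpen V)
  (e : V ≤ u ⁻¹ᵁ W)

include hFT hW hV e in
/-- The generic dichotomy for rank `n` on one affine chart. -/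
theorem exists_uniform_chart_rank (n : ℕ) :
    ∃ g : Γ(S, W), g ≠ 0 ∧ ∃ b : Prop, ∀ s : S, s ∈ S.basicOpen g →
      ((Module.Flat Γ(u.fiber s, (u.fiberι s) ⁻¹ᵁ V)
        Γ((Scheme.Modules.pullback (u.fiberι s)).obj F, (u.fiberι s) ⁻¹ᵁ V) ∧
        ∀ P : PrimeSpectrum Γ(u.fiber s, (u.fiberι s) ⁻¹ᵁ V),
          Module.rankAtStalk Γ((Scheme.Modules.pullback (u.fiberι s)).obj F,
            (u.fiberι s) ⁻¹ᵁ V) P = n) ↔ b) := by
  letI : Algebra Γ(S, W) Γ(X, V) := (u.appLE W V e).hom.toAlgebra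
  haveI : Algebra.FiniteType Γ(S, W) Γ(X, V) :=
    HasRingHomProperty.appLE (P := @LocallyOfFiniteType) u inferInstance ⟨W, hW⟩ ⟨V, hV⟩ e
  letI : Module Γ(S, W) Γ(F, V) := Module.compHom _ (u.appLE W V e).hom
  haveI : IsScalarTower Γ(S, W) Γ(X, V) Γ(F, V) := ⟨fun a b x => by
    change (a • b) • x = (u.appLE W V e).hom a • (b • x)
    rw [Algebra.smul_def, mul_smul]
    rfl⟩
  haveI : Module.Finite Γ(X, V) Γ(F, V) := finite_sections_of_isFiniteType F hFT hV
  haveI : IsNoetherianRing Γ(S, W) := IsLocallyNoetherian.component_noetherian ⟨W, hW⟩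
  obtain ⟨g, hg, b, hb⟩ := exists_rank_fibre_uniform (R := Γ(S, W)) (A := Γ(X, V))
    (M := Γ(F, V)) n
  refine ⟨g, hg, b, fun s hs => ?_⟩
  have hsW : s ∈ W := S.basicOpen_le g hs
  obtain ⟨c, hc⟩ := exists_fibreChart u s hW hsW hV e F
  letI := c.aRB
  letI := c.aAB
  haveI := c.t1
  haveI := c.t2
  haveI := c.po
  rw [← hb c.k Γ(u.fiber s, (u.fiberι s) ⁻¹ᵁ V) c.isField (hc g hs),
    Module.Flat.equiv_iff c.equiv]
  refine and_congr_right fun _ => forall_congr' fun P => ?_
  rw [Module.rankAtStalk_eq_of_equiv c.equiv]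

end rank

section main

theorem primeIdealOf_fromSpec {X : Scheme.{u}} {U : X.Opens} (hU : IsAffineOpen U)
    (P : PrimeSpectrum Γ(X, U)) (h : hU.fromSpec P ∈ U) :
    hU.primeIdealOf ⟨hU.fromSpec P, h⟩ = P := by
  have h1 := hU.fromSpec_primeIdealOf ⟨hU.fromSpec P, h⟩
  exact hU.fromSpec.isOpenEmbedding.injective h1

theorem fromSpec_mem {X : Scheme.{u}} {U : X.Opens} (hU : IsAffineOpen U)
    (P : PrimeSpectrum Γ(X, U)) : hU.fromSpec P ∈ U := by
  have h0 : hU.fromSpec P ∈ Set.range hU.fromSpec := ⟨P, rfl⟩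
  rw [hU.range_fromSpec] at h0
  exact h0

set_option maxHeartbeats 1600000 in
/-- **Generic dichotomy for local freeness of rank `n` of the fibre modules.** -/
theorem dichotomy_isFinLocFreeOfRank (n : ℕ) {X S : Scheme.{u}} (u : X ⟶ S) [IsIntegral S]
    [IsNoetherian S] [LocallyOfFiniteType u] [QuasiCompact u] (F : X.Modules)
    (hF : Coh.IsCoh F) :
    (interior (ConsProp.locusMod (fun _ _ _ G => FlatMod.IsFinLocFreeOfRank n G) u F)).Nonempty ∨
      (interior
        (ConsProp.locusMod (fun _ _ _ G => FlatMod.IsFinLocFreeOfRank n G) u F)ᶜ).Nonempty := by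
  haveI : F.IsQuasicoherent := hF.1
  have hFT : F.IsFiniteType := hF.2
  haveI : IsLocallyNoetherian X := LocallyOfFiniteType.isLocallyNoetherian u
  have hFP : F.IsFinitePresentation := isFinitePresentation_of_qc_ft F hF.1 hFT
  obtain ⟨W, hW, hηW, -⟩ :=
    exists_isAffineOpen_mem_and_subset (x := genericPoint S) (U := ⊤) trivial
  haveI : Nonempty W := ⟨⟨genericPoint S, hηW⟩⟩
  refine dichotomy_of_charts u _
    (fun V s => Module.Flat Γ(u.fiber s, (u.fiberι s) ⁻¹ᵁ V.1)
        Γ((Scheme.Modules.pullback (u.fiberι s)).obj F, (u.fiberι s) ⁻¹ᵁ V.1) ∧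
        ∀ P : PrimeSpectrum Γ(u.fiber s, (u.fiberι s) ⁻¹ᵁ V.1),
          Module.rankAtStalk Γ((Scheme.Modules.pullback (u.fiberι s)).obj F,
            (u.fiberι s) ⁻¹ᵁ V.1) P = n) hW
    (fun V hVW => exists_uniform_chart_rank u F hFT hW V.2 hVW n) ?_
  intro 𝒱 h𝒱 s hsW
  have hle : ∀ V ∈ 𝒱, V.1 ≤ u ⁻¹ᵁ W := fun V hV => by
    rw [h𝒱]
    exact le_iSup₂ (f := fun (i : X.affineOpens) (_ : i ∈ 𝒱) => (i : X.Opens)) V hV
  haveI : ((Scheme.Modules.pullback (u.fiberι s)).obj F).IsQuasicoherent :=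
    qc_pullback (u.fiberι s) F
  change FlatMod.IsFinLocFreeOfRank n ((Scheme.Modules.pullback (u.fiberι s)).obj F) ↔ _
  rw [isFinLocFreeOfRank_iff_finrank_stalk]
  constructor
  · rintro ⟨hloc, hr⟩ V hV
    have hU := isAffineOpen_fiberι_preimage u s hW hsW V.2 (hle V hV)
    refine ⟨((isFinLocFree_iff_sections _).mp hloc _ hU).2, fun P => ?_⟩
    have hy := fromSpec_mem hU P
    rw [← primeIdealOf_fromSpec hU P hy, ← finrank_stalk_eq_rankAtStalk _ hU _ hy]
    exact hr _
  · intro hall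
    have hcover : ∀ y : ↥(u.fiber s), ∃ V ∈ 𝒱, (u.fiberι s) y ∈ V.1 := by
      intro y
      have hy : (u.fiberι s) y ∈ u ⁻¹ᵁ W := by
        change u ((u.fiberι s) y) ∈ W
        have h2 : (u.fiberι s) y ∈ u ⁻¹' {s} := by
          rw [← u.range_fiberι s]
          exact ⟨y, rfl⟩
        have h3 : u ((u.fiberι s) y) = s := h2
        rw [h3]
        exact hsW
      rw [h𝒱] at hy
      simpa [Opens.mem_iSup] using hy
    constructor
    · apply isFinLocFree_of_projective_sections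
      intro y
      obtain ⟨V, hV, hyV⟩ := hcover y
      have hU := isAffineOpen_fiberι_preimage u s hW hsW V.2 (hle V hV)
      haveI hflat := (hall V hV).1
      haveI hfp : Module.FinitePresentation Γ(u.fiber s, (u.fiberι s) ⁻¹ᵁ V.1)
          Γ((Scheme.Modules.pullback (u.fiberι s)).obj F, (u.fiberι s) ⁻¹ᵁ V.1) :=
        finitePresentation_sections_of_isFinitePresentation _
          (isFinitePresentation_pullback (u.fiberι s) F hFP) hU
      exact ⟨(u.fiberι s) ⁻¹ᵁ V.1, hU, hyV, inferInstance,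
        Module.Flat.projective_of_finitePresentation⟩
    · intro y
      obtain ⟨V, hV, hyV⟩ := hcover y
      have hU := isAffineOpen_fiberι_preimage u s hW hsW V.2 (hle V hV)
      rw [finrank_stalk_eq_rankAtStalk _ hU y hyV]
      exact (hall V hV).2 _

/-- **Local freeness of rank `n` is a constructible property of coherent modules on algebraic
schemes.** -/
theorem isConsMod_isFinLocFreeOfRank (n : ℕ) :
    ConsProp.IsConsMod.{u} (fun _ _ _ G => FlatMod.IsFinLocFreeOfRank n G) :=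
  ⟨isFieldStableMod_isFinLocFreeOfRank n,
    fun _ _ u _ _ _ _ F hF => dichotomy_isFinLocFreeOfRank n u F hF⟩

end main

end Groth.Agent.H3.LocFree
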